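import Groth.Agent.SurfInt.Ideal
import Groth.Agent.FittX.Sheaf
import Groth.Agent.FittX.Free
import Groth.Agent.QCoh.Extension
import Groth.Agent.QCoh.Support

/-! The Fitting ideal of the cokernel of a monomorphism of invertible modules. -/

noncomputable section

set_option linter.style.haveILetI false
set_option backward.isDefEq.respectTransparency false
set_option backward.isDefEq.respectTransparency.types false
set_option maxHeartbeats 1000000

universe u

open CategoryTheory CategoryTheory.Limits AlgebraicGeometry TopologicalSpace Opposite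

namespace Groth.Agent.CurvFam16.Ram

open Groth.Agent Groth.Agent.InvX Groth.Agent.AModX

/-- The Fitting ideal of a cyclic module with annihilator generated by `a`. -/
theorem fitt_cyclic {R : Type u} [CommRing R] {M : Type u} [AddCommGroup M] [Module R M] {x : M} {a : R}
    (hx : ∀ z : M, ∃ r : R, z = r • x) (ha : ∀ r : R, r • x = 0 ↔ a ∣ r) :
    Fitt.ideal R M 0 = Ideal.span {a} := by
  haveI : Module.Finite R M := ⟨⟨{x}, eq_top_iff.2 fun z _ => by
    obtain ⟨r, rfl⟩ := hx z
    exact Submodule.smul_mem _ _ (Submodule.subset_span (by simp))⟩⟩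
  refine le_antisymm (fun r hr => Ideal.mem_span_singleton.2 ((ha r).1 ?_))
    ((Ideal.span_singleton_le_iff_mem _).2 (Ideal.subset_span ?_))
  · exact Module.mem_annihilator.1 (FittX.ideal_annihilator (R := R) (M := M) hr) x
  · refine ⟨1, fun _ => x, Matrix.of fun _ _ => a, eq_top_iff.2 fun z _ => ?_, fun i _ => ?_, ?_⟩
    · obtain ⟨r, rfl⟩ := hx z
      exact Submodule.smul_mem _ _ (Submodule.subset_span ⟨0, rfl⟩)
    · simpa using (ha a).2 dvd_rfl
    · simp

variable {X : Scheme.{u}}

/-- Multiplying a section of a module by a section of an ideal. -/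
def smulBilin (M : X.Modules) (I : X.IdealSheafData) :
    H23.TensorDesc.Bilin M (ClSub.idealMod I) M where
  b U m s := OmegaSh.idealSect I U s • m
  add_left U m m' n := smul_add _ _ _
  smul_left U r m n := smul_comm _ _ _
  add_right U m n n' := by rw [map_add, add_smul]
  smul_right U r m n := by rw [OmegaLib.idealSect_smul, mul_smul]
  res {U V} h m n := by
    rw [OmegaLib.idealSect_map]
    exact Scheme.Modules.map_smul M _ _ _

/-- `M ⊗ I ⟶ M`. -/
def smulMap (M : X.Modules) (I : X.IdealSheafData) : CohB1.tensorMod M (ClSub.idealMod I) ⟶ M :=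
  H23.TensorDesc.desc (smulBilin M I)

theorem smulMap_tmul (M : X.Modules) (I : X.IdealSheafData) {U : X.Opens} (m : Γ(M, U))
    (s : Γ(ClSub.idealMod I, U)) :
    (smulMap M I).app U (InvX.tmul m s) = OmegaSh.idealSect I U s • m :=
  H23.TensorDesc.desc_tmul (smulBilin M I) U m s

/-- If `0 → L → M → Q → 0` is exact with `L`, `M` invertible, then `L ≅ M ⊗ Fitt₀ Q`. -/
theorem nonempty_iso {S : ShortComplex X.Modules} (hS : S.ShortExact)
    (hL : PicF.IsInvertible S.X₁) (hM : PicF.IsInvertible S.X₂) (hLq : Coh.IsQCoh S.X₁)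
    (hQ : Coh.IsQCoh S.X₃) (hQft : CohB1.IsFT S.X₃) :
    Nonempty (CohB1.tensorMod S.X₂ (ClSub.idealMod (Fitt.sheafIdeal S.X₃ 0)) ≅ S.X₁) := by
  set I := Fitt.sheafIdeal S.X₃ 0 with hI
  have hch : ∀ x : X, ∃ (U : X.affineOpens) (_ : x ∈ U.1) (l : Γ(S.X₁, U.1)) (m : Γ(S.X₂, U.1))
      (a : Γ(X, U.1)), IsFrame l ∧ IsFrame m ∧ S.f.app U.1 l = a • m ∧ a ∈ nonZeroDivisors Γ(X, U.1) ∧
        I.ideal U = Ideal.span {a} := by
    intro x
    obtain ⟨U₀, hxU₀, l₀, m₀, hl₀, hm₀⟩ := exists_frame₂ hL hM x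
    obtain ⟨U, hU, hxU, hUU₀⟩ := exists_isAffineOpen_mem_and_subset hxU₀
    have hl := hl₀.res hUU₀
    have hm := hm₀.res hUU₀
    obtain ⟨a, ha⟩ := hm.exists_coord le_rfl (S.f.app U (res _ hUU₀ l₀))
    rw [res_res] at ha
    have hinj : ∀ r r' : Γ(X, U), r • a = r' • a → r = r' := fun r r' h => by
      have h2 : r • S.f.app U (res _ hUU₀ l₀) = r' • S.f.app U (res _ hUU₀ l₀) := by
        rw [ha, ← mul_smul, ← mul_smul]
        exact congrArg (· • _) h
      rw [← Scheme.Modules.Hom.app_smul, ← Scheme.Modules.Hom.app_smul] at h2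
      have h3 := QCoh.app_f_injective hS U h2
      refine hl.coord_unique le_rfl ?_
      rw [res_res]
      exact h3
    refine ⟨⟨U, hU⟩, hxU, res _ hUU₀ l₀, res _ hUU₀ m₀, a, hl, hm, ha,
      mem_nonZeroDivisors_iff_right.2 fun r hr => hinj r 0 (by rw [smul_eq_mul, smul_eq_mul, hr, zero_mul]), ?_⟩
    rw [hI, FittX.sheafIdeal_ideal hQ hQft 0 ⟨U, hU⟩]
    refine fitt_cyclic (x := S.g.app U (res _ hUU₀ m₀)) (fun z => ?_) fun r => ?_
    · haveI := hS.epi_g
      obtain ⟨w, rfl⟩ := QCoh.app_surjective_of_shortExact hS hLq hU z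
      obtain ⟨r, hr⟩ := hm.exists_coord le_rfl w
      rw [res_res] at hr
      exact ⟨r, by rw [← Scheme.Modules.Hom.app_smul, ← hr]⟩
    · constructor
      · intro h
        rw [← Scheme.Modules.Hom.app_smul] at h
        obtain ⟨w, hw⟩ := QCoh.exists_app_f_eq hS U _ h
        obtain ⟨c, hc⟩ := hl.exists_coord le_rfl w
        rw [res_res] at hc
        rw [hc, Scheme.Modules.Hom.app_smul, ha, ← mul_smul] at hw
        refine ⟨c, ?_⟩
        rw [mul_comm]
        exact (hm.coord_unique le_rfl (by simpa only [res_res] using hw)).symm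
      · rintro ⟨c, rfl⟩
        rw [mul_comm, mul_smul, ← Scheme.Modules.Hom.app_smul, ← ha]
        exact (congrArg (c • ·) (QCoh.app_g_f U _)).trans (smul_zero _)
  choose U hU l m a hl hm ha hnd hIU using hch
  have hcart : BlowUp.IsEffCartierIdeal I := fun x => ⟨U x, hU x, a x, hnd x, hIU x⟩
  have hs : ∀ x, ∃ s : Γ(ClSub.idealMod I, (U x).1), OmegaSh.idealSect I (U x).1 s = a x := fun x =>
    OmegaLib.exists_idealSect_eq I (U x).1 (a x) (by rw [← RingHom.mem_ker, I.ker_subschemeι_app (U x), hIU x]; exact Ideal.mem_span_singleton_self _)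
  choose s hs using hs
  have hsf : ∀ x, IsFrame (s x) := fun x => SurfInt.isFrame_of_generator hcart (hIU x) (hs x)
  let t := fun x => InvX.tmul (m x) (s x)
  have htf : ∀ x, IsFrame (t x) := fun x => InvX.isFrame_tmul (hm x) (hsf x)
  let τ := smulMap S.X₂ I
  have hτ : ∀ x, τ.app _ (t x) = S.f.app _ (l x) := fun x => by
    rw [ha x, ← hs x]
    exact smulMap_tmul _ _ _ _
  have hcov : ∀ x : X, ∃ b, x ∈ (U b).1 := fun x => ⟨x, hU x⟩
  have hc : ∀ (p q : X) (W : X.Opens) (hp : W ≤ (U p).1) (hq : W ≤ (U q).1) (g : Γ(X, W)),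
      res _ hq (l q) = g • res _ hp (l p) → res _ hq (t q) = g • res _ hp (t p) := by
    intro p q W hp hq g hg
    obtain ⟨g', hg'⟩ := (htf p).exists_coord hp (res _ hq (t q))
    have h1 := congrArg (τ.app W) hg'
    rw [Scheme.Modules.Hom.app_smul, app_res, app_res, hτ, hτ, ← app_res, ← app_res,
      ← Scheme.Modules.Hom.app_smul] at h1
    have h2 := QCoh.app_f_injective hS W h1
    have : g' = g := (hl p).coord_unique hp (h2.symm.trans hg)
    rwa [this] at hg'
  let α := ofFrames hcov hl hc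
  haveI := SurfInt.isIso_of_frames α (fun x => (U x).1) hU l hl fun x => by
    rw [ofFrames_app]
    exact htf x
  exact ⟨(asIso α).symm⟩

end Groth.Agent.CurvFam16.Ram
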