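import Groth.Agent.CurvFam16.Ram.Seq

/-! Hurwitz formula and the ramification divisor. -/

noncomputable section

set_option linter.style.haveILetI false
set_option backward.isDefEq.respectTransparency false
set_option backward.isDefEq.respectTransparency.types false
set_option maxHeartbeats 400000

universe u

open CategoryTheory CategoryTheory.Limits AlgebraicGeometry TopologicalSpace Opposite

namespace Groth.Agent.CurvFam16.Ram

open Groth.Agent

variable (k : Type u) [Field k] [IsAlgClosed k] (X Y : Scheme.{u})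
  [X.Over (Spec (CommRingCat.of k))] [IsIntegral X] [IsProper (X ↘ (Spec (CommRingCat.of k)))]
  [Smooth (X ↘ (Spec (CommRingCat.of k)))]
  [Y.Over (Spec (CommRingCat.of k))] [IsIntegral Y] [IsProper (Y ↘ (Spec (CommRingCat.of k)))]
  [Smooth (Y ↘ (Spec (CommRingCat.of k)))]
  (hdimX : topologicalKrullDim X = 1) (hdimY : topologicalKrullDim Y = 1)
  (f : X ⟶ Y) [IsFinite f] (hf : f ≫ (Y ↘ (Spec (CommRingCat.of k))) = X ↘ (Spec (CommRingCat.of k)))
  (hun : (f.stalkMap (genericPoint X)).hom.FormallyUnramified)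

include hdimX hdimY hf hun

theorem omega_tensor_iso : Nonempty (CohB1.tensorMod (Omega.sheaf (X ↘ (Spec (CommRingCat.of k))))
    (ClSub.idealMod (Fitt.sheafIdeal (Omega.sheaf f) 0)) ≅
      (Scheme.Modules.pullback f).obj (Omega.sheaf (Y ↘ (Spec (CommRingCat.of k))))) := by
  haveI : IsLocallyNoetherian X :=
    LocallyOfFiniteType.isLocallyNoetherian (X ↘ Spec (CommRingCat.of k))
  obtain ⟨a, b, w, hS⟩ := exists_seq k X Y hdimX hdimY f hf hun
  have hL := PicClLib.isInvertible_pullback f (CurveFF.isInvertible_Ωm k Y hdimY)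
  have h := nonempty_iso (S := ShortComplex.mk a b w) hS hL (CurveFF.isInvertible_Ωm k X hdimX)
  have hq := (CurveDeg.isCoh_of_isInvertible hL).1
  have h3 := h hq (OmegaUniv.isQCoh_omega f)
  have h4 := h3 (OmegaUniv.isFT_omega f)
  exact h4

theorem hurwitz (e : f (genericPoint X) = genericPoint Y) :
    2 * (Curv2.genus k X : ℤ) - 2 =
      (f.residueDegree (genericPoint X) : ℤ) * (2 * (Curv2.genus k Y : ℤ) - 2) +
        (Module.finrank k (Coh.HH X (Omega.sheaf f) 0) : ℤ) := by
  haveI : IsLocallyNoetherian X :=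
    LocallyOfFiniteType.isLocallyNoetherian (X ↘ Spec (CommRingCat.of k))
  haveI : IsLocallyNoetherian Y :=
    LocallyOfFiniteType.isLocallyNoetherian (Y ↘ Spec (CommRingCat.of k))
  obtain ⟨a, b, w, hS⟩ := exists_seq k X Y hdimX hdimY f hf hun
  have hY := CurveFF.isInvertible_Ωm k Y hdimY
  have hL := PicClLib.isInvertible_pullback f hY
  have hM := CurveFF.isInvertible_Ωm k X hdimX
  have hQ : Coh.IsCoh (Omega.sheaf f) := ⟨OmegaUniv.isQCoh_omega f, OmegaUniv.isFT_omega f⟩
  have hd : topologicalKrullDim (CohB1.support (Omega.sheaf f)) ≤ 0 := by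
    refine CurveDeg.topologicalKrullDim_le_zero_of_ne_univ hdimX.le
      (QCoh.isClosed_support_of_isFT hQ.1 hQ.2) fun hu => ?_
    exact (hu.symm.subset (Set.mem_univ (genericPoint X)))
      ((OmegaUniv.subsingleton_stalk_iff_stalkMap f (genericPoint X)).2 hun)
  have hgood := Euler.good_of_dim_le_zero k hQ hd
  have hQe : Curv2.euler k X (Omega.sheaf f) = (Module.finrank k (Coh.HH X (Omega.sheaf f) 0) : ℤ) := by
    rw [Euler.euler_eq_sum k (Omega.sheaf f) 1 hgood.1, Finset.sum_range_one, pow_zero, one_mul]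
  have hadd := Euler.euler_add k (S := ShortComplex.mk a b w) hS (CurveDeg.isCoh_of_isInvertible hL)
  have hadd' := hadd (CurveDeg.isCoh_of_isInvertible hM)
  have hadd'' := hadd' hQ
  change Curv2.euler k X (Omega.sheaf (X ↘ (Spec (CommRingCat.of k)))) =
      Curv2.euler k X ((Scheme.Modules.pullback f).obj (Omega.sheaf (Y ↘ (Spec (CommRingCat.of k))))) +
        Curv2.euler k X (Omega.sheaf f) at hadd''
  obtain ⟨-, hX2⟩ := CurveFF.canonical_invariants k X hdimX
  obtain ⟨-, hY2⟩ := CurveFF.canonical_invariants k Y hdimY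
  have hfree := InvEnd.isFinLocFreeOfRank_one hY
  have hp := S7640.result k X Y hdimX hdimY f hf e 1 (Omega.sheaf (Y ↘ (Spec (CommRingCat.of k)))) hfree
  simp only [Curv2.deg, Nat.cast_one, one_mul] at hp hX2 hY2
  change Curv2.euler k X (Omega.sheaf (X ↘ (Spec (CommRingCat.of k)))) - _ = _ at hX2
  change Curv2.euler k Y (Omega.sheaf (Y ↘ (Spec (CommRingCat.of k)))) - _ = _ at hY2
  rw [hY2] at hp
  generalize Curv2.euler k X (Omega.sheaf f) = q at hQe hadd''
  generalize Curv2.euler k X (Coh.structureModule X) = c at hp hX2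
  generalize Curv2.euler k X (Omega.sheaf (X ↘ (Spec (CommRingCat.of k)))) = m at hadd'' hX2
  generalize Curv2.euler k X ((Scheme.Modules.pullback f).obj
    (Omega.sheaf (Y ↘ (Spec (CommRingCat.of k))))) = l at hadd'' hp
  rw [← hQe]
  linarith

end Groth.Agent.CurvFam16.Ram
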