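import Groth.Agent.CurvFam16.Ram.FittDiv
import Groth.Agent.CurveFF.Omega
import Groth.Agent.CurveCohLib.RegularCurve
import Groth.Agent.OmegaUniv.Unram
import Groth.Agent.Lib.CurveDeg
import Groth.Agent.S5975
import Groth.Agent.S9370
import Groth.Agent.S7640

/-! The cotangent sequence of a separable map of curves. -/

noncomputable section

set_option linter.style.haveILetI false
set_option backward.isDefEq.respectTransparency false
set_option backward.isDefEq.respectTransparency.types false
set_option maxHeartbeats 1000000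

universe u

open CategoryTheory CategoryTheory.Limits AlgebraicGeometry TopologicalSpace Opposite

namespace Groth.Agent.CurvFam16.Ram

open Groth.Agent

/-- An invertible module has no vanishing stalk. -/
theorem not_subsingleton_stalk {X : Scheme.{u}} {M : X.Modules} (hM : PicF.IsInvertible M) (x : X) :
    ¬ Subsingleton (M.presheaf.stalk x) := by
  obtain ⟨U, hU, e, he⟩ := InvX.exists_frame hM x
  intro h
  haveI : Subsingleton (X.presheaf.stalk x) := (he.germ_bijective hU).injective.subsingleton
  exact false_of_nontrivial_of_subsingleton (X.presheaf.stalk x)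

/-- A separable map is unramified at the generic point. -/
theorem formallyUnramified_generic {X Y : Scheme.{u}} [IsIntegral X] [IsIntegral Y] (f : X ⟶ Y)
    (e : f (genericPoint X) = genericPoint Y)
    (hsep : letI := ((Y.presheaf.stalkSpecializes (specializes_of_eq e) ≫
        f.stalkMap (genericPoint X)).hom).toAlgebra
      Algebra.IsSeparable Y.functionField X.functionField)
    [LocallyOfFiniteType f] :
    (f.stalkMap (genericPoint X)).hom.FormallyUnramified := by
  letI := ((Y.presheaf.stalkSpecializes (specializes_of_eq e) ≫ f.stalkMap (genericPoint X)).hom).toAlgebra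
  haveI := hsep
  haveI : Algebra.FormallyEtale Y.functionField X.functionField :=
    Algebra.FormallyEtale.of_isSeparable _ _
  have hi : IsIso (Y.presheaf.stalkSpecializes (specializes_of_eq e.symm)) :=
    ⟨Y.presheaf.stalkSpecializes (specializes_of_eq e), by simp, by simp⟩
  have h : f.stalkMap (genericPoint X) = Y.presheaf.stalkSpecializes (specializes_of_eq e.symm) ≫
      (Y.presheaf.stalkSpecializes (specializes_of_eq e) ≫ f.stalkMap (genericPoint X)) := by
    rw [← Category.assoc, TopCat.Presheaf.stalkSpecializes_comp, TopCat.Presheaf.stalkSpecializes_refl,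
      Category.id_comp]
  rw [h, CommRingCat.hom_comp]
  exact RingHom.FormallyUnramified.comp (RingHom.FormallyUnramified.of_surjective
    (ConcreteCategory.bijective_of_isIso _).surjective)
    (show Algebra.FormallyUnramified Y.functionField X.functionField from inferInstance)

variable (k : Type u) [Field k] [IsAlgClosed k] (X Y : Scheme.{u})
  [X.Over (Spec (CommRingCat.of k))] [IsIntegral X] [IsProper (X ↘ (Spec (CommRingCat.of k)))]
  [Smooth (X ↘ (Spec (CommRingCat.of k)))]
  [Y.Over (Spec (CommRingCat.of k))] [IsIntegral Y] [IsProper (Y ↘ (Spec (CommRingCat.of k)))]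
  [Smooth (Y ↘ (Spec (CommRingCat.of k)))]

/-- `0 → f^*Ω_Y → Ω_X → Ω_{X/Y} → 0`. -/
theorem exists_seq (hdimX : topologicalKrullDim X = 1) (hdimY : topologicalKrullDim Y = 1)
    (f : X ⟶ Y) (hf : f ≫ (Y ↘ (Spec (CommRingCat.of k))) = X ↘ (Spec (CommRingCat.of k)))
    (hun : (f.stalkMap (genericPoint X)).hom.FormallyUnramified) :
    ∃ (a : (Scheme.Modules.pullback f).obj (Omega.sheaf (Y ↘ (Spec (CommRingCat.of k)))) ⟶
        Omega.sheaf (X ↘ (Spec (CommRingCat.of k))))
      (b : Omega.sheaf (X ↘ (Spec (CommRingCat.of k))) ⟶ Omega.sheaf f) (w : a ≫ b = 0),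
      (ShortComplex.mk a b w).ShortExact := by
  have hL := PicClLib.isInvertible_pullback f (CurveFF.isInvertible_Ωm k Y hdimY)
  have hM : PicF.IsInvertible (Omega.sheaf (f ≫ (Y ↘ (Spec (CommRingCat.of k))))) := by
    rw [hf]; exact CurveFF.isInvertible_Ωm k X hdimX
  suffices h : ∃ (a : (Scheme.Modules.pullback f).obj (Omega.sheaf (Y ↘ (Spec (CommRingCat.of k)))) ⟶
        Omega.sheaf (f ≫ (Y ↘ (Spec (CommRingCat.of k)))))
      (b : Omega.sheaf (f ≫ (Y ↘ (Spec (CommRingCat.of k)))) ⟶ Omega.sheaf f) (w : a ≫ b = 0),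
      (ShortComplex.mk a b w).ShortExact by
    rw [hf] at h; exact h
  haveI : QuasiSeparated (f ≫ (Y ↘ (Spec (CommRingCat.of k)))) := by rw [hf]; infer_instance
  haveI : QuasiSeparated f := QuasiSeparated.of_comp f (Y ↘ (Spec (CommRingCat.of k)))
  obtain ⟨c₁, hc₁, -⟩ := S9370.result (Y ↘ (Spec (CommRingCat.of k))) (f ≫ (Y ↘ (Spec (CommRingCat.of k))))
    f (𝟙 _) (Category.comp_id _) _ _ (OmegaUniv.isUniversal_dOmega _) _ _ (OmegaUniv.isUniversal_dOmega _)
  obtain ⟨c₂, hc₂, -⟩ := S9370.result (f ≫ (Y ↘ (Spec (CommRingCat.of k)))) f (𝟙 X)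
    (Y ↘ (Spec (CommRingCat.of k))) (Category.id_comp _).symm _ _ (OmegaUniv.isUniversal_dOmega _) _ _
    (OmegaUniv.isUniversal_dOmega _)
  obtain ⟨hepi, him⟩ := S5975.result f (Y ↘ (Spec (CommRingCat.of k))) _ _ (OmegaUniv.isUniversal_dOmega _)
    _ _ (OmegaUniv.isUniversal_dOmega _) _ _ (OmegaUniv.isUniversal_dOmega _) c₁ hc₁ c₂ hc₂
  haveI := hepi
  set b := (Scheme.Modules.pullbackId X).inv.app _ ≫ c₂
  have w : c₁ ≫ b = 0 := by
    have h : (imageSubobject c₁).arrow ≫ b = 0 := by
      rw [← Subobject.ofLE_arrow (le_of_eq him), Category.assoc, kernelSubobject_arrow_comp, comp_zero]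
    rw [← imageSubobject_arrow_comp c₁, Category.assoc, h, comp_zero]
  have hex : (ShortComplex.mk c₁ b w).Exact := (ShortComplex.exact_iff_image_eq_kernel _).2 him
  haveI : Epi b := epi_comp _ _
  have ha : c₁ ≠ 0 := by
    intro h
    haveI : Mono b := (ShortComplex.exact_iff_mono _ h).1 hex
    haveI : IsIso b := isIso_of_mono_of_epi b
    haveI : Subsingleton (((Scheme.Modules.toPresheaf X) ⋙ TopCat.Presheaf.stalkFunctor _ (genericPoint X)).obj
        (Omega.sheaf f)) := (OmegaUniv.subsingleton_stalk_iff_stalkMap f (genericPoint X)).2 hun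
    exact not_subsingleton_stalk hM (genericPoint X)
      ((((Scheme.Modules.toPresheaf X) ⋙ TopCat.Presheaf.stalkFunctor _ (genericPoint X)).mapIso
        (asIso b)).addCommGroupIsoToAddEquiv.toEquiv.subsingleton)
  haveI : Mono c₁ := InvEnd.mono_of_ne_zero hL hM c₁ ha
  exact ⟨c₁, b, w, { exact := hex }⟩

end Groth.Agent.CurvFam16.Ram
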